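import Mathlib
import Cfsg.Prelude.Def_Transfer
import Cfsg.Prelude.Def_CaseTheorems
import Cfsg.Agent.Lib.ExS.Rank
import Cfsg.Agent.Lib.OOL.ES

set_option autoImplicit false
set_option linter.unusedVariables false
set_option linter.unusedSectionVars false

namespace CfsgLib.ExS.Class

open Cfsg CfsgLib.ExS.Rank CfsgLib.OOL.ES

section models

variable {n e : ℕ}

theorem sq_eq_one_iff (x : HG n e) : x ^ 2 = 1 ↔ Qf n e x.v = 0 := by
  rw [pow_two]
  constructor
  · intro h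
    have := congrArg HG.a h
    simp only [mul_a, one_a] at this
    have h2 := z2_add_self x.a
    rw [h2, zero_add] at this
    exact this
  · intro h
    apply HG.ext
    · simp [vec_add_self]
    · simp only [mul_a, one_a]
      rw [z2_add_self x.a, zero_add]
      exact h

theorem card_sq (n e : ℕ) : (Nat.card {x : HG n e // x ^ 2 = 1} : ℤ) = 2 ^ (2 * n) + sumS n e := by
  classical
  -- reduce to the quadratic form
  have h1 : Nat.card {x : HG n e // x ^ 2 = 1} = Nat.card ({v : Vec n // Qf n e v = 0} × ZMod 2) := by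
    refine Nat.card_congr ?_
    exact
      { toFun := fun x => (⟨x.1.v, (sq_eq_one_iff x.1).mp x.2⟩, x.1.a)
        invFun := fun p => ⟨⟨p.1.1, p.2⟩, (sq_eq_one_iff _).mpr p.1.2⟩
        left_inv := fun x => by
          apply Subtype.ext
          apply HG.ext <;> rfl
        right_inv := fun p => by
          rcases p with ⟨⟨v, hv⟩, a⟩
          rfl }
  have h2 : Nat.card ({v : Vec n // Qf n e v = 0} × ZMod 2) = ((Finset.univ.filter (fun v : Vec n => Qf n e v = 0)).card) * 2 := by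
    rw [Nat.card_prod, Nat.card_eq_fintype_card (α := ZMod 2), ZMod.card, Nat.card_eq_fintype_card, Fintype.card_subtype]
  have h3 : sumS n e = ((Finset.univ.filter (fun v : Vec n => Qf n e v = 0)).card : ℤ) - ((Finset.univ.filter (fun v : Vec n => ¬ Qf n e v = 0)).card : ℤ) := by
    simp only [sumS, chi]
    rw [Finset.sum_ite]
    simp
    ring
  have h4 : (Finset.univ.filter (fun v : Vec n => Qf n e v = 0)).card + (Finset.univ.filter (fun v : Vec n => ¬ Qf n e v = 0)).card = 2 ^ (2 * n) := by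
    rw [Finset.card_filter_add_card_filter_not, Finset.card_univ]
    have := card_vec (n := n)
    rwa [Nat.card_eq_fintype_card] at this
  rw [h1, h2, h3]
  push_cast
  have h5 : ((Finset.univ.filter (fun v : Vec n => Qf n e v = 0)).card : ℤ) + ((Finset.univ.filter (fun v : Vec n => ¬ Qf n e v = 0)).card : ℤ) = 2 ^ (2 * n) := by
    exact_mod_cast h4
  linarith

theorem card_sq_zero (n : ℕ) : Nat.card {x : HG n 0 // x ^ 2 = 1} = 2 ^ (2 * n) + 2 ^ n := by
  have := card_sq n 0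
  rw [sumS_zero] at this
  exact_mod_cast this

theorem card_sq_one (m : ℕ) : Nat.card {x : HG (m + 1) 1 // x ^ 2 = 1} = 2 ^ (2 * (m + 1)) - 2 ^ (m + 1) := by
  have := card_sq (m + 1) 1
  rw [sumS_one] at this
  have h2 : (2 : ℕ) ^ (m + 1) ≤ 2 ^ (2 * (m + 1)) := Nat.pow_le_pow_right (by norm_num) (by omega)
  have h3 : ((2 ^ (2 * (m + 1)) - 2 ^ (m + 1) : ℕ) : ℤ) = 2 ^ (2 * (m + 1)) - 2 ^ (m + 1) := by
    rw [Nat.cast_sub h2]
    push_cast
    ring
  have : ((Nat.card {x : HG (m + 1) 1 // x ^ 2 = 1} : ℕ) : ℤ) = ((2 ^ (2 * (m + 1)) - 2 ^ (m + 1) : ℕ) : ℤ) := by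
    rw [h3, this]
    ring
  exact_mod_cast this

theorem rank_zero (n : ℕ) : PRankLE 2 (n + 1) (HG n 0) ∧ ¬ PRankLE 2 n (HG n 0) := by
  constructor
  · intro A _ hA
    have h1 := card_le_of_proj A
    have h2 := witt_zero (projW A) (qf_of_mem hA)
    calc Nat.card A ≤ (Wset (projW A)).card * 2 := h1
      _ ≤ 2 ^ n * 2 := Nat.mul_le_mul_right _ h2
      _ = 2 ^ (n + 1) := by rw [pow_succ]
  · intro h
    have hs := stdA_elem (n := n) (e := 0)
    have h1 := h (stdA n 0) hs.1 hs.2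
    rw [card_stdA (by omega)] at h1
    have h2 := (Nat.pow_le_pow_iff_right (by norm_num : 1 < 2)).mp h1
    omega

theorem rank_one (m : ℕ) : PRankLE 2 (m + 1) (HG (m + 1) 1) ∧ ¬ PRankLE 2 m (HG (m + 1) 1) := by
  constructor
  · intro A _ hA
    have h1 := card_le_of_proj A
    have h2 := witt_one (projW A) (qf_of_mem hA)
    calc Nat.card A ≤ (Wset (projW A)).card * 2 := h1
      _ ≤ 2 ^ m * 2 := Nat.mul_le_mul_right _ (by simpa using h2)
      _ = 2 ^ (m + 1) := by rw [pow_succ]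
  · intro h
    have hs := stdA_elem (n := m + 1) (e := 1)
    have h1 := h (stdA (m + 1) 1) hs.1 hs.2
    rw [card_stdA (by omega)] at h1
    have h2 := (Nat.pow_le_pow_iff_right (by norm_num : 1 < 2)).mp h1
    omega

end models

section transport

theorem card_sq_congr {G H : Type*} [Group G] [Group H] (e : G ≃* H) :
    Nat.card {x : G // x ^ 2 = 1} = Nat.card {x : H // x ^ 2 = 1} := by
  refine Nat.card_congr
    { toFun := fun x => ⟨e x.1, by rw [← map_pow, x.2, map_one]⟩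
      invFun := fun x => ⟨e.symm x.1, by rw [← map_pow, x.2, map_one]⟩
      left_inv := fun x => by simp
      right_inv := fun x => by simp }

theorem prank_congr {G H : Type*} [Group G] [Group H] (e : G ≃* H) (k : ℕ) (h : PRankLE 2 k H) : PRankLE 2 k G := by
  intro A hAc hA
  let B : Subgroup H := A.map e.toMonoidHom
  have hB : Nat.card B = Nat.card A := Subgroup.card_map_of_injective e.injective
  rw [← hB]
  refine h B ?_ ?_
  · refine ⟨⟨?_⟩⟩
    rintro ⟨_, a, ha, rfl⟩ ⟨_, b, hb, rfl⟩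
    apply Subtype.ext
    have h1 : ((⟨a, ha⟩ : A) * ⟨b, hb⟩ : A) = ⟨b, hb⟩ * ⟨a, ha⟩ := mul_comm' _ _
    have h2 : a * b = b * a := congrArg Subtype.val h1
    change e a * e b = e b * e a
    rw [← map_mul, h2, map_mul]
  · rintro _ ⟨a, ha, rfl⟩
    change (e a) ^ 2 = 1
    rw [← map_pow, hA a ha, map_one]

end transport

section main

universe u v

/-- Each extraspecial `2`-group is one of the two models. -/
theorem two_models {E : Type u} [Group E] [Finite E] (hE : IsExtraspecial 2 E) (m : ℕ) (hm : Nat.card E = 2 ^ (2 * (m + 1) + 1)) :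
    Nonempty (E ≃* HG (m + 1) 0) ∨ Nonempty (E ≃* HG (m + 1) 1) := by
  have h0 : IsExtraspecial 2 (HG (m + 1) 0) := extraspecial (by omega)
  have h1 : IsExtraspecial 2 (HG (m + 1) 1) := extraspecial (by omega)
  rcases es_three _ E (HG (m + 1) 0) (HG (m + 1) 1) (isES_of_extraspecial hE) (isES_of_extraspecial h0) (isES_of_extraspecial h1)
    hm card_HG card_HG with h | ⟨⟨e⟩⟩ | h
  · exact Or.inl h
  · exfalso
    have h2 := card_sq_congr e
    rw [card_sq_zero, card_sq_one] at h2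
    have h3 : (0 : ℕ) < 2 ^ (m + 1) := by positivity
    omega
  · exact Or.inr h

theorem count_ne (m : ℕ) : (2 ^ (2 * (m + 1)) + 2 ^ (m + 1) : ℕ) ≠ 2 ^ (2 * (m + 1)) - 2 ^ (m + 1) := by
  have h3 : (0 : ℕ) < 2 ^ (m + 1) := by positivity
  generalize (2 : ℕ) ^ (2 * (m + 1)) = A
  generalize (2 : ℕ) ^ (m + 1) = B at h3 ⊢
  omega

theorem main4416 (E : Type u) [Group E] [Finite E] (hE : IsExtraspecial 2 E) :
    (∃ m : ℕ, 1 ≤ m ∧ Nat.card E = 2 ^ (2 * m + 1) ∧
      (Nat.card {x : E // x ^ 2 = 1} = 2 ^ (2 * m) + 2 ^ m ∨ Nat.card {x : E // x ^ 2 = 1} = 2 ^ (2 * m) - 2 ^ m)) ∧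
    ∀ (E' : Type v) [Group E'] [Finite E'], IsExtraspecial 2 E' → Nat.card E' = Nat.card E →
      Nat.card {x : E' // x ^ 2 = 1} = Nat.card {x : E // x ^ 2 = 1} → Nonempty (E ≃* E') := by
  obtain ⟨n, hn1, hcard⟩ := extraspecial_card hE
  obtain ⟨m, rfl⟩ : ∃ m, n = m + 1 := ⟨n - 1, by omega⟩
  have hne := count_ne m
  rcases two_models hE m hcard with ⟨⟨e⟩⟩ | ⟨⟨e⟩⟩
  · have hc : Nat.card {x : E // x ^ 2 = 1} = 2 ^ (2 * (m + 1)) + 2 ^ (m + 1) := by
      rw [card_sq_congr e, card_sq_zero]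
    refine ⟨⟨m + 1, by omega, hcard, Or.inl hc⟩, ?_⟩
    intro E' _ _ hE' hcE hcount
    rcases two_models hE' m (hcE.trans hcard) with ⟨⟨e'⟩⟩ | ⟨⟨e'⟩⟩
    · exact ⟨e.trans e'.symm⟩
    · exfalso
      rw [card_sq_congr e', card_sq_one, hc] at hcount
      exact hne hcount.symm
  · have hc : Nat.card {x : E // x ^ 2 = 1} = 2 ^ (2 * (m + 1)) - 2 ^ (m + 1) := by
      rw [card_sq_congr e, card_sq_one]
    refine ⟨⟨m + 1, by omega, hcard, Or.inr hc⟩, ?_⟩
    intro E' _ _ hE' hcE hcount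
    rcases two_models hE' m (hcE.trans hcard) with ⟨⟨e'⟩⟩ | ⟨⟨e'⟩⟩
    · exfalso
      rw [card_sq_congr e', card_sq_zero, hc] at hcount
      exact hne hcount
    · exact ⟨e.trans e'.symm⟩

theorem main3763 {E : Type u} [Group E] [Finite E] (hE : IsExtraspecial 2 E) (n : ℕ) (hn : Nat.card E = 2 ^ (2 * n + 1)) :
    ((PRankLE 2 n E ∧ ¬ PRankLE 2 (n - 1) E) ∨ (PRankLE 2 (n + 1) E ∧ ¬ PRankLE 2 n E)) ∧
    ∀ (E' : Type v) [Group E'] [Finite E'], IsExtraspecial 2 E' → Nat.card E' = Nat.card E →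
      (∀ k : ℕ, PRankLE 2 k E ↔ PRankLE 2 k E') → Nonempty (E ≃* E') := by
  obtain ⟨n', hn1, hcard⟩ := extraspecial_card hE
  have hnn : n' = n := by
    have h1 : 2 ^ (2 * n' + 1) = 2 ^ (2 * n + 1) := by rw [← hcard, hn]
    have h2 := Nat.pow_right_injective (le_refl 2) h1
    omega
  subst hnn
  obtain ⟨m, rfl⟩ : ∃ m, n' = m + 1 := ⟨n' - 1, by omega⟩
  rcases two_models hE m hcard with ⟨⟨e⟩⟩ | ⟨⟨e⟩⟩
  · have hr := rank_zero (m + 1)
    have h1 : PRankLE 2 (m + 1 + 1) E := prank_congr e _ hr.1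
    have h2 : ¬ PRankLE 2 (m + 1) E := fun h => hr.2 (prank_congr e.symm _ h)
    refine ⟨Or.inr ⟨h1, h2⟩, ?_⟩
    intro E' _ _ hE' hcE hk
    rcases two_models hE' m (hcE.trans hcard) with ⟨⟨e'⟩⟩ | ⟨⟨e'⟩⟩
    · exact ⟨e.trans e'.symm⟩
    · exfalso
      exact h2 ((hk _).mpr (prank_congr e' _ (rank_one m).1))
  · have hr := rank_one m
    have h1 : PRankLE 2 (m + 1) E := prank_congr e _ hr.1
    have h2 : ¬ PRankLE 2 m E := fun h => hr.2 (prank_congr e.symm _ h)
    refine ⟨Or.inl ⟨h1, by simpa using h2⟩, ?_⟩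
    intro E' _ _ hE' hcE hk
    rcases two_models hE' m (hcE.trans hcard) with ⟨⟨e'⟩⟩ | ⟨⟨e'⟩⟩
    · exfalso
      exact (rank_zero (m + 1)).2 (prank_congr e'.symm _ ((hk _).mp h1))
    · exact ⟨e.trans e'.symm⟩

end main

end CfsgLib.ExS.Class
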